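import Groth.Prelude.Def_KRR
import Groth.Agent.S1497
import Groth.Agent.S1108
import Groth.Agent.Ega2.AmpleUnit

/-!
# Quasi-projective schemes over an affine scheme have an ample module and enough locally free modules
-/

set_option autoImplicit false
universe u

open CategoryTheory CategoryTheory.Limits AlgebraicGeometry

namespace Groth.Agent.Krr.H473.QProj

/-- The resolution property is the same thing as having enough locally free modules. -/
theorem hasEnoughLocFree_iff (X : Scheme.{u}) :
    KRR.HasEnoughLocFree X ↔ PerfAux.HasResolutionProperty X :=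
  ⟨fun h M h₁ h₂ => h M ⟨h₁, h₂⟩, fun h M hM => h M hM.1 hM.2⟩

variable {S Y : Scheme.{u}} [IsAffine S] [IsNoetherian Y] {q : Y ⟶ S}

theorem ample_aux (h : KRR.IsQProjOver q) :
    LocallyOfFiniteType q ∧ QuasiCompact q ∧ ∃ L : Y.Modules, CohB1.IsAmple L := by
  obtain ⟨n, i, hi, hq⟩ := h
  exact (Groth.Agent.S1497.result ⟨_, Groth.Agent.Ega2.Weight.isAmple_structureModule S⟩ q).1
    ⟨n, i, hi, inferInstance, hq⟩

/-- A Noetherian quasi-projective scheme over an affine scheme has an ample module. -/
theorem exists_isAmple (h : KRR.IsQProjOver q) : ∃ L : Y.Modules, CohB1.IsAmple L :=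
  (ample_aux h).2.2

theorem locallyOfFiniteType (h : KRR.IsQProjOver q) : LocallyOfFiniteType q := (ample_aux h).1

theorem quasiCompact (h : KRR.IsQProjOver q) : QuasiCompact q := (ample_aux h).2.1

/-- A Noetherian quasi-projective scheme over an affine scheme has the resolution property. -/
theorem hasResolutionProperty (h : KRR.IsQProjOver q) : PerfAux.HasResolutionProperty Y := by
  obtain ⟨L, hL⟩ := exists_isAmple h
  exact Groth.Agent.S1108.result Y L hL

/-- A Noetherian quasi-projective scheme over an affine scheme has enough locally free modules. -/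
theorem hasEnoughLocFree (h : KRR.IsQProjOver q) : KRR.HasEnoughLocFree Y :=
  (hasEnoughLocFree_iff Y).2 (hasResolutionProperty h)

/-- A scheme with an ample module has enough locally free modules. -/
theorem hasEnoughLocFree_of_isAmple {X : Scheme.{u}} {L : X.Modules} (hL : CohB1.IsAmple L) :
    KRR.HasEnoughLocFree X :=
  (hasEnoughLocFree_iff X).2 (Groth.Agent.S1108.result X L hL)

end Groth.Agent.Krr.H473.QProj
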