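import Groth.Prelude.Def_SGA6
import Groth.Agent.Krr.H447.Syz
import Groth.Agent.Sga67.KTrBasic
import Groth.Agent.PerfA.PerfLocal
import Groth.Agent.S0887
import Mathlib.Algebra.Homology.DerivedCategory.SingleTriangle

/-!
# The class in `K₀` of perfect complexes of a module with a finite locally free resolution
-/

set_option autoImplicit false
universe u
open CategoryTheory CategoryTheory.Limits AlgebraicGeometry
attribute [local instance] HasDerivedCategory.standard

namespace Groth.Agent.Krr.H473.LFClass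

open Groth.Agent.PerfA.PerfLocal Groth.Agent.Sga67.KTrBasic

variable {X : Scheme.{u}}

/-- Perfect objects are closed under isomorphisms. -/
theorem perfP_iso (X : Scheme.{u}) : (SGA6.perfP X).IsClosedUnderIsomorphisms :=
  ⟨fun e h => isPerfect_of_iso e h⟩

/-- Zero objects are perfect. -/
theorem perfP_zero (X : Scheme.{u}) : (SGA6.perfP X).ContainsZero :=
  ⟨⟨_, isZero_zero _, isPerfect_of_isZero (isZero_zero _)⟩⟩

attribute [local instance] perfP_iso perfP_zero

/-- A module with a finite locally free resolution `L` is perfect, with class `Σ (-1)^k [L_k]`, for any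
homomorphism `ρ : K₀(vect) ⟶ K₀(perf)` which sends `[E]` to `[E[0]]`. -/
theorem class_of_isLFRes (ρ : SGA6.Kvb X →+ SGA6.Kperf X)
    (hρ : ∀ E : X.Modules, FlatMod.IsFinLocFree E →
      ρ (KRR.cl X E) = KZero.clTr (SGA6.perfP X) (DCoh.inD X E))
    {M : X.Modules} {n : ℕ} {L : ChainComplex X.Modules ℕ}
    {π : L ⟶ (ChainComplex.single₀ X.Modules).obj M} (h : KRR.IsLFRes M n L π) :
    DCoh.IsPerfect (DCoh.inD X M) ∧
      ρ (∑ k ∈ Finset.range (n + 1), (-1 : ℤ) ^ k • KRR.cl X (L.X k)) =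
        KZero.clTr (SGA6.perfP X) (DCoh.inD X M) := by
  refine Groth.Agent.Krr.H447.Syz.isLFRes_induction
    (fun M c => DCoh.IsPerfect (DCoh.inD X M) ∧ ρ c = KZero.clTr (SGA6.perfP X) (DCoh.inD X M))
    ?_ ?_ ?_ h
  · rintro M N c e ⟨h1, h2⟩
    refine ⟨isPerfect_of_iso ((DerivedCategory.singleFunctor X.Modules 0).mapIso e) h1, ?_⟩
    rw [h2]
    exact clTr_iso ((DerivedCategory.singleFunctor X.Modules 0).mapIso e)
  · intro M hM
    have h0 : IsZero (DCoh.inD X M) := (DerivedCategory.singleFunctor X.Modules 0).map_isZero hM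
    refine ⟨isPerfect_of_isZero h0, ?_⟩
    rw [map_zero, clTr_isZero _ h0]
  · rintro S hS h₂ c ⟨h1, h3⟩
    have hp₂ : DCoh.IsPerfect (DCoh.inD X S.X₂) := isPerfect_inD_of_isFinLocFree h₂
    have hp₃ : DCoh.IsPerfect (DCoh.inD X S.X₃) :=
      (Groth.Agent.S0887.result _ hS.singleTriangle_distinguished).1 h1 hp₂
    refine ⟨hp₃, ?_⟩
    have h4 := clTr_add (P := SGA6.perfP X) hS.singleTriangle hS.singleTriangle_distinguished
      h1 hp₂ hp₃
    change KZero.clTr (SGA6.perfP X) (DCoh.inD X S.X₂) =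
      KZero.clTr (SGA6.perfP X) (DCoh.inD X S.X₁) +
        KZero.clTr (SGA6.perfP X) (DCoh.inD X S.X₃) at h4
    rw [map_sub, hρ _ h₂, h4, h3, add_sub_cancel_left]

end Groth.Agent.Krr.H473.LFClass
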