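import Groth.Agent.Dcoh.DerPull
import Groth.Agent.Dcoh.KFlatMod
import Groth.Agent.Dcoh.Spread

/-!
# The derived pullback of a flat module
-/

set_option autoImplicit false
universe u
open CategoryTheory CategoryTheory.Limits AlgebraicGeometry
attribute [local instance] HasDerivedCategory.standard

namespace Groth.Agent.Krr.H473.LpullFlatMod

variable {X Y : Scheme.{u}}

/-- `Lf^*(M[0]) ≅ (f^*M)[0]` for a flat module `M`. -/
theorem nonempty_lpull_inD_of_isFlat (f : X ⟶ Y) [DCoh.HasLpull f] (M : Y.Modules)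
    (hM : FlatMod.IsFlat M) :
    Nonempty ((DCoh.Lpull f).obj (DCoh.inD Y M) ≅
      DCoh.inD X ((Scheme.Modules.pullback f).obj M)) := by
  have h := Groth.Agent.Dcoh.KFlatMod.isKFlat_single M hM 0
  exact ⟨(DCoh.Lpull f).mapIso ((DerivedCategory.singleFunctorIsoCompQ Y.Modules 0).app M) ≪≫
    Groth.Agent.Dcoh.DerPull.lpullIso f _ h ≪≫
    DerivedCategory.Q.mapIso
      ((HomologicalComplex.singleMapHomologicalComplex (Scheme.Modules.pullback f)
        (ComplexShape.up ℤ) 0).app M) ≪≫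
    ((DerivedCategory.singleFunctorIsoCompQ X.Modules 0).app _).symm⟩

/-- `Lf^*(E[0]) ≅ (f^*E)[0]` for a finite locally free module `E`. -/
theorem nonempty_lpull_inD (f : X ⟶ Y) [DCoh.HasLpull f] (E : Y.Modules)
    (hE : FlatMod.IsFinLocFree E) :
    Nonempty ((DCoh.Lpull f).obj (DCoh.inD Y E) ≅
      DCoh.inD X ((Scheme.Modules.pullback f).obj E)) :=
  nonempty_lpull_inD_of_isFlat f E (Groth.Agent.Dcoh.Spread.isFlat_of_isFinLocFree hE)

end Groth.Agent.Krr.H473.LpullFlatMod
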