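import Groth.Agent.Krr.H473.Splice
import Groth.Agent.Dcoh.Spread
import Groth.Agent.S1036
import Mathlib.Algebra.Homology.DerivedCategory.Basic

/-!
# Perfect modules on schemes with the resolution property have finite locally free resolutions
-/

set_option autoImplicit false
universe v u
open CategoryTheory CategoryTheory.Limits AlgebraicGeometry
attribute [local instance] HasDerivedCategory.standard

namespace Groth.Agent.Krr.H473.PerfRes

open Groth.Agent.Krr.H473.Splice

section Abelian

variable {A : Type u} [Category.{v} A] [Abelian A] (K : CochainComplex A ℤ)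

/-- `Z^i ⟶ K^i ⟶ Z^{i+1}`. -/
noncomputable def cycSeq (i j : ℤ) : ShortComplex A :=
  ShortComplex.mk (K.iCycles i) (K.toCycles i j) (by
    rw [← cancel_mono (K.iCycles j)]
    simp)

lemma cycSeq_shortExact (i j : ℤ) (hij : i + 1 = j) (h : K.ExactAt j) :
    (cycSeq K i j).ShortExact := by
  have hepi : Epi (K.toCycles i j) :=
    Preadditive.epi_of_isZero_cokernel' _ (K.homologyIsCokernel i j (by simp [← hij]))
      h.isZero_homology
  have hmono : Mono (cycSeq K i j).f := inferInstanceAs (Mono (K.iCycles i))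
  refine { exact := ?_, mono_f := hmono, epi_g := hepi }
  refine ShortComplex.exact_of_f_is_kernel _ (KernelFork.IsLimit.ofι' _ _ (fun {T} x hx => ?_))
  change T ⟶ K.X i at x
  change x ≫ K.toCycles i j = 0 at hx
  have hx' : x ≫ K.d i j = 0 := by
    rw [← K.toCycles_i i j, reassoc_of% hx, zero_comp]
  exact ⟨K.liftCycles x j (by simp [← hij]) hx', K.liftCycles_i x j (by simp [← hij]) hx'⟩

/-- `Z^i ⟶ K^i ⟶ B^{i+1}`. -/
noncomputable def bdSeq₁ (i j : ℤ) : ShortComplex A :=
  ShortComplex.mk (K.iCycles i) (Abelian.factorThruImage (K.toCycles i j)) (by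
    rw [← cancel_mono (Abelian.image.ι (K.toCycles i j)), Category.assoc,
      Abelian.image.fac, zero_comp, ← cancel_mono (K.iCycles j)]
    simp)

lemma bdSeq₁_shortExact (i j : ℤ) (hij : i + 1 = j) : (bdSeq₁ K i j).ShortExact := by
  have hmono : Mono (bdSeq₁ K i j).f := inferInstanceAs (Mono (K.iCycles i))
  refine { exact := ?_, mono_f := hmono,
           epi_g := inferInstanceAs (Epi (Abelian.factorThruImage (K.toCycles i j))) }
  refine ShortComplex.exact_of_f_is_kernel _ (KernelFork.IsLimit.ofι' _ _ (fun {T} x hx => ?_))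
  change T ⟶ K.X i at x
  change x ≫ Abelian.factorThruImage (K.toCycles i j) = 0 at hx
  have hx' : x ≫ K.d i j = 0 := by
    rw [← K.toCycles_i i j]
    conv_lhs => rw [← Abelian.image.fac (K.toCycles i j)]
    rw [Category.assoc, reassoc_of% hx, zero_comp]
  exact ⟨K.liftCycles x j (by simp [← hij]) hx', K.liftCycles_i x j (by simp [← hij]) hx'⟩

/-- `B^j ⟶ Z^j ⟶ H^j`. -/
noncomputable def bdSeq₂ (i j : ℤ) : ShortComplex A :=
  ShortComplex.mk (Abelian.image.ι (K.toCycles i j)) (K.homologyπ j) (by
    rw [← cancel_epi (Abelian.factorThruImage (K.toCycles i j)), ← Category.assoc,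
      Abelian.image.fac, comp_zero]
    simp)

lemma bdSeq₂_shortExact (i j : ℤ) (hij : i + 1 = j) : (bdSeq₂ K i j).ShortExact := by
  refine { exact := ?_, mono_f := inferInstanceAs (Mono (Abelian.image.ι (K.toCycles i j))),
           epi_g := inferInstanceAs (Epi (K.homologyπ j)) }
  have h := ShortComplex.exact_of_g_is_cokernel
    (ShortComplex.mk (K.toCycles i j) (K.homologyπ j) (by simp))
    (K.homologyIsCokernel i j (by simp [← hij]))
  let φ : ShortComplex.mk (K.toCycles i j) (K.homologyπ j) (by simp) ⟶ bdSeq₂ K i j :=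
    { τ₁ := Abelian.factorThruImage (K.toCycles i j), τ₂ := 𝟙 _, τ₃ := 𝟙 _
      comm₁₂ := by
        change Abelian.factorThruImage (K.toCycles i j) ≫ Abelian.image.ι (K.toCycles i j) =
          K.toCycles i j ≫ 𝟙 _
        simp
      comm₂₃ := by
        change 𝟙 _ ≫ K.homologyπ j = K.homologyπ j ≫ 𝟙 _
        simp }
  have : Epi φ.τ₁ := inferInstanceAs (Epi (Abelian.factorThruImage (K.toCycles i j)))
  have : IsIso φ.τ₂ := inferInstanceAs (IsIso (𝟙 _))
  have : Mono φ.τ₃ := inferInstanceAs (Mono (𝟙 _))
  exact (ShortComplex.exact_iff_of_epi_of_isIso_of_mono φ).1 h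

lemma isZero_cycles (i : ℤ) (h : IsZero (K.X i)) : IsZero (K.cycles i) := by
  rw [IsZero.iff_id_eq_zero, ← cancel_mono (K.iCycles i)]
  exact h.eq_of_tgt _ _

end Abelian

section Modules

variable {X : Scheme.{u}}

theorem hasLFRes_homology (E : CochainComplex X.Modules ℤ) (hE : DCoh.IsStrictlyPerfect E)
    (h : ∀ i : ℤ, i ≠ 0 → E.ExactAt i) : KRR.HasLFRes (E.homology 0) := by
  obtain ⟨⟨a, b, hab⟩, hE⟩ := hE
  -- the cycles in nonnegative degrees
  have h1 : ∀ n : ℕ, ∀ i : ℤ, 0 ≤ i → b + 1 ≤ i + n → FlatMod.IsFinLocFree (E.cycles i) := by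
    intro n
    induction n with
    | zero =>
      intro i _ hi
      exact Groth.Agent.Dcoh.FinLocFree.isFinLocFree_of_isZero
        (isZero_cycles E i (hab i (Or.inr (by push_cast at hi; omega))))
    | succ n ih =>
      intro i hi hi'
      have h3 := cycSeq_shortExact E i (i + 1) rfl (h (i + 1) (by omega))
      have h4 := h3.epi_g
      have h5 := Groth.Agent.Dcoh.Spread.isFinLocFree_kernel (cycSeq E i (i + 1)).g (hE i)
        (ih (i + 1) (by omega) (by push_cast at hi' ⊢; omega))
      exact Groth.Agent.Dcoh.FinLocFree.isFinLocFree_of_iso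
        (IsLimit.conePointUniqueUpToIso (kernelIsKernel _) h3.fIsKernel) h5
  have h0 : FlatMod.IsFinLocFree (E.cycles 0) :=
    h1 (b + 1).toNat 0 le_rfl (by have := Int.self_le_toNat (b + 1); omega)
  -- the cycles in negative degrees
  have h2 : ∀ n : ℕ, a - 1 + n ≤ -1 → KRR.HasLFRes (E.cycles (a - 1 + n)) := by
    intro n
    induction n with
    | zero =>
      intro _
      exact hasLFRes_of_isZero (isZero_cycles E _ (hab _ (Or.inl (by push_cast; omega))))
    | succ n ih =>
      intro hn
      push_cast at hn ⊢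
      have h3 := cycSeq_shortExact E (a - 1 + n) (a - 1 + (n + 1)) (by ring)
        (h _ (by omega))
      exact hasLFRes_of_shortExact _ h3 (hE _) (ih (by omega))
  have h2' : KRR.HasLFRes (E.cycles (-1)) := by
    by_cases ha : a - 1 ≤ -1
    · have := h2 (-a).toNat (by have := Int.toNat_of_nonneg (a := -a) (by omega); omega)
      rwa [show a - 1 + ((-a).toNat : ℤ) = -1 by
        have := Int.toNat_of_nonneg (a := -a) (by omega); omega] at this
    · exact hasLFRes_of_isZero (isZero_cycles E _ (hab _ (Or.inl (by omega))))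
  have h3 := hasLFRes_of_shortExact _ (bdSeq₁_shortExact E (-1) 0 (by norm_num)) (hE _) h2'
  exact hasLFRes_of_shortExact _ (bdSeq₂_shortExact E (-1) 0 (by norm_num)) h0 h3

/-- On a quasi-compact quasi-separated scheme with the resolution property, a module which is perfect as
an object of the derived category has a finite resolution by finite locally free modules. -/
theorem hasLFRes_of_isPerfect [CompactSpace X] [QuasiSeparatedSpace X]
    (hX : PerfAux.HasResolutionProperty X) (M : X.Modules) (hM : DCoh.IsPerfect (DCoh.inD X M)) :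
    KRR.HasLFRes M := by
  obtain ⟨E, hE, ⟨e⟩⟩ := Groth.Agent.S1036.result X hX _ hM
  have e' : ∀ i : ℤ, E.homology i ≅
      (DerivedCategory.homologyFunctor X.Modules i).obj (DCoh.inD X M) := fun i =>
    ((DerivedCategory.homologyFunctorFactors X.Modules i).app E).symm ≪≫
      (DerivedCategory.homologyFunctor X.Modules i).mapIso e
  have h : ∀ i : ℤ, i ≠ 0 → E.ExactAt i := by
    intro i hi
    rw [HomologicalComplex.exactAt_iff_isZero_homology]
    refine IsZero.of_iso ?_ (e' i ≪≫ (DerivedCategory.homologyFunctorFactors X.Modules i).app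
      ((CochainComplex.singleFunctor X.Modules 0).obj M))
    exact (HomologicalComplex.exactAt_iff_isZero_homology _ _).1
      (HomologicalComplex.exactAt_single_obj _ _ _ _ hi)
  refine hasLFRes_of_iso ?_ (hasLFRes_homology E hE h)
  exact e' 0 ≪≫ (DerivedCategory.homologyFunctorFactors X.Modules 0).app
      ((CochainComplex.singleFunctor X.Modules 0).obj M) ≪≫
    HomologicalComplex.singleObjHomologySelfIso _ _ _

end Modules

end Groth.Agent.Krr.H473.PerfRes
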