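import Groth.Agent.Krr.H473.QProj
import Groth.Agent.Krr.H473.PerfRes
import Groth.Agent.Krr.H473.LFClass
import Groth.Agent.Krr.H473.LpullFlatMod
import Groth.Agent.S3199
import Groth.Agent.S0019
import Groth.Agent.S0921
import Groth.Agent.PerfC.ClosedPush
import Groth.Agent.Cohder.KZBasic
import Groth.Agent.Flat2H.FamOpen
import Groth.Agent.PerfB.FlatPull

/-!
# Generation of `K(Y₁)` for the blow-up of a regular scheme along a regular centre
-/

set_option autoImplicit false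
universe v w u
open CategoryTheory CategoryTheory.Limits AlgebraicGeometry
attribute [local instance] HasDerivedCategory.standard

namespace Groth.Agent.Krr.H473.BlowGen

open Groth.Agent.PerfA Groth.Agent.PerfA.PerfLocal Groth.Agent.PerfA.CohSerre
open Groth.Agent.Ega2.BlowBasic

section Regular

/-- **The blow-up of a regular scheme along a regular centre is regular.** -/
theorem regular_of_isBlowUp {X Y X' : Scheme.{u}} [IsLocallyNoetherian X]
    (hX : ∀ x : X, IsRegularLocalRing (X.presheaf.stalk x)) (i : Y ⟶ X)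
    (hi : Mor2.IsRegularClosedImmersion i)
    (hY : ∀ y : Y, IsRegularLocalRing (Y.presheaf.stalk y)) {f : X' ⟶ X}
    (hf : BlowUp.IsBlowUp f i.ker) (x' : X') : IsRegularLocalRing (X'.presheaf.stalk x') := by
  have : IsClosedImmersion i := hi.1
  by_cases hx : f x' ∈ Set.range i
  · obtain ⟨y, hy⟩ := hx
    exact Groth.Agent.Sga67.BlowReg.regular_blowUp i hi hY hf x' y hy
  · have h2 : (i.ker.support : Set X) = Set.range i := by
      rw [Scheme.Hom.support_ker]
      exact i.isClosedEmbedding.isClosed_range.closure_eq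
    have hx' : x' ∈ offSupport (i.ker.comap f) := by
      rw [mem_offSupport, Scheme.IdealSheafData.support_comap]
      intro h
      apply hx
      rw [← h2]
      exact h
    have hk : IsOpenImmersion ((offSupport (i.ker.comap f)).ι ≫ f) := isOpenImmersion_offSupport hf
    have h3 := (Groth.Agent.Sga67.BlowReg.regular_stalk_iff
      ((offSupport (i.ker.comap f)).ι ≫ f) ⟨x', hx'⟩).1 (hX _)
    exact (Groth.Agent.Sga67.BlowReg.regular_stalk_iff (offSupport (i.ker.comap f)).ι ⟨x', hx'⟩).2 h3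

end Regular

section Push

variable {X Y : Scheme.{u}}

/-- On a locally Noetherian regular scheme coherent modules are perfect. -/
theorem isPerfect_inD_of_regular [IsLocallyNoetherian Y]
    (hreg : ∀ y : Y, IsRegularLocalRing (Y.presheaf.stalk y)) (G : Y.Modules) (hG : Coh.IsCoh G) :
    DCoh.IsPerfect (DCoh.inD Y G) := by
  have h0 : (DCoh.inD Y G).IsGE 0 :=
    (inferInstance : ((DerivedCategory.singleFunctor Y.Modules 0).obj G).IsGE 0)
  have h0' : (DCoh.inD Y G).IsLE 0 :=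
    (inferInstance : ((DerivedCategory.singleFunctor Y.Modules 0).obj G).IsLE 0)
  exact S1005.result Y hreg _ 0 0 (QCohD.isCohD_inD G hG)

/-- The direct image of perfect complexes along a closed immersion into a regular Noetherian scheme. -/
theorem isPerfect_push_of_regular [IsNoetherian X] [IsLocallyNoetherian Y]
    (hreg : ∀ y : Y, IsRegularLocalRing (Y.presheaf.stalk y)) (j : X ⟶ Y) [IsFinite j]
    [(Scheme.Modules.pushforward j).Additive] [PreservesFiniteLimits (Scheme.Modules.pushforward j)]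
    [PreservesFiniteColimits (Scheme.Modules.pushforward j)]
    (K : DCoh.D X) (hK : DCoh.IsPerfect K) :
    DCoh.IsPerfect ((Scheme.Modules.pushforward j).mapDerivedCategory.obj K) := by
  obtain ⟨hcoh, a, b, ha, hb⟩ := Groth.Agent.S1006.result X K hK
  have := ExactD.isGE_map (Scheme.Modules.pushforward j) K a
  have := ExactD.isLE_map (Scheme.Modules.pushforward j) K b
  refine S1005.result Y hreg _ a b (fun i => ?_)
  exact isCoh_of_iso ((ExactD.mapHomology (Scheme.Modules.pushforward j) i).app K).symm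
    (Groth.Agent.S0019.result j _ (hcoh i))

end Push

section Comparison

variable {X Y : Scheme.{u}} {KX : Type v} {KY : Type w} [CommRing KX] [CommRing KY]

/-- The push-forward `i_K` of a closed immersion is the direct image on `K₀` of perfect complexes. -/
theorem pushCl_eq (f : X ⟶ Y) (ρX : SGA6.Kvb X →+ SGA6.Kperf X)
    (hρX : ∀ E : X.Modules, FlatMod.IsFinLocFree E →
      ρX (KRR.cl X E) = KZero.clTr (SGA6.perfP X) (DCoh.inD X E))
    (ρY : SGA6.Kvb Y ≃+ SGA6.Kperf Y)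
    (hρY : ∀ E : Y.Modules, FlatMod.IsFinLocFree E →
      ρY (KRR.cl Y E) = KZero.clTr (SGA6.perfP Y) (DCoh.inD Y E))
    [(Scheme.Modules.pushforward f).Additive] [PreservesFiniteLimits (Scheme.Modules.pushforward f)]
    [PreservesFiniteColimits (Scheme.Modules.pushforward f)]
    (hj : ∀ K : DCoh.D X, DCoh.IsPerfect K →
      DCoh.IsPerfect ((Scheme.Modules.pushforward f).mapDerivedCategory.obj K))
    (hres : ∀ F : X.Modules, FlatMod.IsFinLocFree F →
      KRR.HasLFRes ((Scheme.Modules.pushforward f).obj F))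
    (φX : SGA6.Kvb X →+ KX) (φY : SGA6.Kvb Y →+ KY) (g : KX →+ KY) (hg : KRR.IsPushCl f φX φY g)
    (z : SGA6.Kvb X) :
    g (φX z) = φY (ρY.symm (SGA6.mapTr ((Scheme.Modules.pushforward f).mapDerivedCategory)
      (SGA6.perfP X) (SGA6.perfP Y) hj (ρX z))) := by
  have h : (g.comp φX) = (φY.comp ρY.symm.toAddMonoidHom).comp
      ((SGA6.mapTr ((Scheme.Modules.pushforward f).mapDerivedCategory)
        (SGA6.perfP X) (SGA6.perfP Y) hj).comp ρX) := by
    apply Groth.Agent.Cohder.KZBasic.hom_ext_sub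
    intro F hF
    have hFp : DCoh.IsPerfect (DCoh.inD X F) := isPerfect_inD_of_isFinLocFree hF
    obtain ⟨n, L, π, hL⟩ := hres F hF
    change g (φX (KRR.cl X F)) = φY (ρY.symm (SGA6.mapTr
      ((Scheme.Modules.pushforward f).mapDerivedCategory) (SGA6.perfP X) (SGA6.perfP Y) hj
        (ρX (KRR.cl X F))))
    rw [hρX F hF, Groth.Agent.Sga67.K0Map.mapTr_clTr _ (SGA6.perfP X) (SGA6.perfP Y) hj hFp,
      hg F hF n L π hL]
    have h1 := (Groth.Agent.Krr.H473.LFClass.class_of_isLFRes ρY.toAddMonoidHom hρY hL).2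
    have h2 : KZero.clTr (SGA6.perfP Y)
        ((Scheme.Modules.pushforward f).mapDerivedCategory.obj (DCoh.inD X F)) =
        KZero.clTr (SGA6.perfP Y) (DCoh.inD Y ((Scheme.Modules.pushforward f).obj F)) :=
      Groth.Agent.Sga67.KTrBasic.clTr_iso
        (((Scheme.Modules.pushforward f).mapDerivedCategorySingleFunctor 0).app F)
    rw [h2, ← h1]
    change _ = φY (ρY.symm (ρY _))
    rw [AddEquiv.symm_apply_apply, map_sum]
    exact Finset.sum_congr rfl fun k _ => (map_zsmul φY _ _).symm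
  exact DFunLike.congr_fun h z

/-- The pull-back `f^K` is the derived pull-back on `K₀` of perfect complexes. -/
theorem pull_eq (f : X ⟶ Y) (ρX : SGA6.Kvb X ≃+ SGA6.Kperf X)
    (hρX : ∀ E : X.Modules, FlatMod.IsFinLocFree E →
      ρX (KRR.cl X E) = KZero.clTr (SGA6.perfP X) (DCoh.inD X E))
    (ρY : SGA6.Kvb Y →+ SGA6.Kperf Y)
    (hρY : ∀ E : Y.Modules, FlatMod.IsFinLocFree E →
      ρY (KRR.cl Y E) = KZero.clTr (SGA6.perfP Y) (DCoh.inD Y E))
    [DCoh.HasLpull f] [(DCoh.Lpull f).CommShift ℤ] [(DCoh.Lpull f).IsTriangulated]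
    (hf : ∀ K : DCoh.D Y, DCoh.IsPerfect K → DCoh.IsPerfect ((DCoh.Lpull f).obj K))
    (hpull : ∀ E : Y.Modules, FlatMod.IsFinLocFree E →
      FlatMod.IsFinLocFree ((Scheme.Modules.pullback f).obj E))
    (φX : SGA6.Kvb X →+ KX) (φY : SGA6.Kvb Y →+ KY) (g : KY →+ KX) (hg : KRR.IsPull f φY φX g)
    (z : SGA6.Kvb Y) :
    g (φY z) = φX (ρX.symm (SGA6.mapTr (DCoh.Lpull f) (SGA6.perfP Y) (SGA6.perfP X) hf (ρY z))) := by
  have h : (g.comp φY) = (φX.comp ρX.symm.toAddMonoidHom).comp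
      ((SGA6.mapTr (DCoh.Lpull f) (SGA6.perfP Y) (SGA6.perfP X) hf).comp ρY) := by
    apply Groth.Agent.Cohder.KZBasic.hom_ext_sub
    intro E hE
    have hEp : DCoh.IsPerfect (DCoh.inD Y E) := isPerfect_inD_of_isFinLocFree hE
    change g (φY (KRR.cl Y E)) = φX (ρX.symm (SGA6.mapTr (DCoh.Lpull f) (SGA6.perfP Y)
      (SGA6.perfP X) hf (ρY (KRR.cl Y E))))
    rw [hρY E hE, Groth.Agent.Sga67.K0Map.mapTr_clTr _ (SGA6.perfP Y) (SGA6.perfP X) hf hEp,
      hg E hE]
    obtain ⟨e⟩ := LpullFlatMod.nonempty_lpull_inD f E hE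
    have h2 : KZero.clTr (SGA6.perfP X) ((DCoh.Lpull f).obj (DCoh.inD Y E)) =
        KZero.clTr (SGA6.perfP X) (DCoh.inD X ((Scheme.Modules.pullback f).obj E)) :=
      Groth.Agent.Sga67.KTrBasic.clTr_iso e
    rw [h2, ← hρX _ (hpull E hE), AddEquiv.symm_apply_apply]
  exact DFunLike.congr_fun h z

end Comparison

section Main

/-- **Generation.** -/
theorem main {S X Y X₁ Y₁ : Scheme.{u}} [IsAffine S] [IsNoetherian Y] (qY : Y ⟶ S)
    (hqY : KRR.IsQProjOver qY) (hYreg : ∀ y : Y, IsRegularLocalRing (Y.presheaf.stalk y))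
    (f : X ⟶ Y) (hf : Mor2.IsRegularClosedImmersion f)
    (hXreg : ∀ x : X, IsRegularLocalRing (X.presheaf.stalk x))
    (φ : Y₁ ⟶ Y) (hφ : BlowUp.IsBlowUp φ f.ker) (f₁ : X₁ ⟶ Y₁) (ψ : X₁ ⟶ X)
    (hsq : IsPullback f₁ ψ φ f) [IsClosedImmersion f₁]
    {KX₁ KY KY₁ : Type v} [CommRing KX₁] [CommRing KY] [CommRing KY₁]
    (φX₁ : SGA6.Kvb X₁ →+ KX₁) (φY : SGA6.Kvb Y →+ KY) (φY₁ : SGA6.Kvb Y₁ →+ KY₁)
    (hY₁ : Function.Surjective φY₁)
    (gφ : KY →+ KY₁) (hgφ : KRR.IsPull φ φY φY₁ gφ)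
    (gf₁ : KX₁ →+ KY₁) (hgf₁ : KRR.IsPushCl f₁ φX₁ φY₁ gf₁) :
    ∀ y₁ : KY₁, ∃ (x₁ : KX₁) (y : KY), gf₁ x₁ + gφ y = y₁ := by
  have hfc : IsClosedImmersion f := hf.1
  obtain ⟨L, hL⟩ := QProj.exists_isAmple hqY
  have hN₁ : IsNoetherian Y₁ := Groth.Agent.Sga67.BlowK1.isNoetherian_blowUp hφ
  have hX₁L : IsLocallyNoetherian X₁ := LocallyOfFiniteType.isLocallyNoetherian f₁
  have hX₁C : CompactSpace X₁ := QuasiCompact.compactSpace_of_compactSpace f₁
  have hX₁N : IsNoetherian X₁ := { }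
  have hqc : QuasiCompact φ := Groth.Agent.Divis.BlowTwist.quasiCompact_of_isBlowUp hφ
    (Groth.Agent.Sga67.BlowK1.isFiniteTypeIdeal f.ker)
  have hreg₁ : ∀ y : Y₁, IsRegularLocalRing (Y₁.presheaf.stalk y) :=
    regular_of_isBlowUp hYreg f hf hXreg hφ
  obtain ⟨L₁, hL₁⟩ := Groth.Agent.Sga67.BlowAmple.exists_isAmple hφ L hL
  have hL₁' := Groth.Agent.Flat2H.FamOpen.isAmple_pullback_of_isAffineHom f₁ hL₁
  have hRY := Groth.Agent.S1108.result Y L hL
  have hRY₁ := Groth.Agent.S1108.result Y₁ L₁ hL₁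
  have hRX₁ := Groth.Agent.S1108.result X₁ _ hL₁'
  obtain ⟨ρY, hρY⟩ := Groth.Agent.S1028.result Y hRY
  obtain ⟨ρY₁, hρY₁⟩ := Groth.Agent.S1028.result Y₁ hRY₁
  obtain ⟨ρX₁, hρX₁⟩ := Groth.Agent.S1028.result X₁ hRX₁
  have hp : PreservesFiniteColimits (Scheme.Modules.pushforward f₁) :=
    Groth.Agent.PerfC.ClosedPush.preservesFiniteColimits f₁
  have hj := isPerfect_push_of_regular hreg₁ f₁
  have hLp : DCoh.HasLpull φ := Groth.Agent.S0959.result φ
  letI := Groth.Agent.Dcoh.DerPull.lpullCommShift φ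
  have hTr : (DCoh.Lpull φ).IsTriangulated := Groth.Agent.Dcoh.DerPull.lpull_isTriangulated φ
  have hpull := fun K hK => Groth.Agent.S0921.result φ K hK
  have hsurj := Groth.Agent.S3199.result L hL f hf hXreg φ hφ f₁ ψ hsq hj hpull
  intro y₁
  obtain ⟨κ, rfl⟩ := hY₁ y₁
  obtain ⟨⟨a, b⟩, hab⟩ := hsurj (ρY₁ κ)
  refine ⟨φX₁ (ρX₁.symm a), φY (ρY.symm b), ?_⟩
  have h1 := pushCl_eq f₁ ρX₁.toAddMonoidHom hρX₁ ρY₁ hρY₁ hj (fun F hF =>
    PerfRes.hasLFRes_of_isPerfect hRY₁ _ (isPerfect_inD_of_regular hreg₁ _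
      (Groth.Agent.S0019.result f₁ _ (isCoh_of_isFinLocFree hF)))) φX₁ φY₁ gf₁ hgf₁ (ρX₁.symm a)
  have h2 := pull_eq φ ρY₁ hρY₁ ρY.toAddMonoidHom hρY hpull (fun E hE =>
    Groth.Agent.PerfB.FlatPull.isFinLocFree_pullback φ hE) φY₁ φY gφ hgφ (ρY.symm b)
  change _ = φY₁ (ρY₁.symm (SGA6.mapTr _ _ _ _ (ρX₁ (ρX₁.symm a)))) at h1
  change _ = φY₁ (ρY₁.symm (SGA6.mapTr _ _ _ _ (ρY (ρY.symm b)))) at h2
  rw [AddEquiv.apply_symm_apply] at h1 h2
  rw [h1, h2, ← map_add, ← map_add]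
  change φY₁ (ρY₁.symm ((fun p : SGA6.Kperf X₁ × SGA6.Kperf Y => _) (a, b))) = _
  rw [show _ = ρY₁ κ from hab, AddEquiv.symm_apply_apply]

end Main

end Groth.Agent.Krr.H473.BlowGen
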