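import Groth.Prelude.Def_KRR
import Groth.Agent.Dcoh.FinLocFree
import Mathlib.CategoryTheory.Abelian.Projective.Resolution
import Mathlib.Algebra.Homology.Augment

/-!
# Splicing a short exact sequence with a finite locally free resolution
-/

set_option autoImplicit false
universe v u
open CategoryTheory CategoryTheory.Limits AlgebraicGeometry

namespace Groth.Agent.Krr.H473.Splice

section Abelian

variable {A : Type u} [Category.{v} A] [Abelian A]

/-- A criterion for an augmentation `L ⟶ M[0]` to be a quasi-isomorphism. -/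
theorem quasiIso_iff (L : ChainComplex A ℕ) {M : A} (p : L.X 0 ⟶ M) (w : L.d 1 0 ≫ p = 0) :
    QuasiIso ((ChainComplex.toSingle₀Equiv L M).symm ⟨p, w⟩) ↔
      (∀ n : ℕ, L.ExactAt (n + 1)) ∧ (ShortComplex.mk (L.d 1 0) p w).Exact ∧ Epi p := by
  have key0 : QuasiIsoAt ((ChainComplex.toSingle₀Equiv L M).symm ⟨p, w⟩) 0 ↔
      (ShortComplex.mk (L.d 1 0) p w).Exact ∧ Epi p := by
    rw [ChainComplex.quasiIsoAt₀_iff, ShortComplex.quasiIso_iff_of_zeros']
    · refine ShortComplex.exact_and_epi_g_iff_of_iso ?_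
      exact ShortComplex.isoMk (Iso.refl _) (Iso.refl _) (Iso.refl _)
        ((Category.id_comp _).trans (Category.comp_id _).symm)
        ((Category.id_comp _).trans ((ChainComplex.toSingle₀Equiv_symm_apply_f_zero p w).symm.trans
          (Category.comp_id _).symm))
    · exact L.shape _ _ (by simp)
    · rfl
    · rfl
  have keyn : ∀ n : ℕ, QuasiIsoAt ((ChainComplex.toSingle₀Equiv L M).symm ⟨p, w⟩) (n + 1) ↔
      L.ExactAt (n + 1) := fun n => by
    rw [quasiIsoAt_iff_exactAt']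
    exact ChainComplex.exactAt_succ_single_obj _ _
  constructor
  · intro h
    exact ⟨fun n => (keyn n).1 inferInstance, key0.1 inferInstance⟩
  · rintro ⟨h1, h2⟩
    refine ⟨fun n => ?_⟩
    cases n with
    | zero => exact key0.2 h2
    | succ n => exact (keyn n).2 (h1 n)

theorem exists_toSingle {L : ChainComplex A ℕ} {M : A} (π : L ⟶ (ChainComplex.single₀ A).obj M) :
    ∃ (p : L.X 0 ⟶ M) (w : L.d 1 0 ≫ p = 0), (ChainComplex.toSingle₀Equiv L M).symm ⟨p, w⟩ = π :=
  ⟨((ChainComplex.toSingle₀Equiv L M) π).1, ((ChainComplex.toSingle₀Equiv L M) π).2, by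
    exact Equiv.symm_apply_apply _ _⟩

end Abelian

section Aug

variable {A : Type u} [Category.{v} A] [Abelian A] (S : ShortComplex A) (hS : S.ShortExact)
  (L : ChainComplex A ℕ) (p : L.X 0 ⟶ S.X₁) (w : L.d 1 0 ≫ p = 0)

/-- `... ⟶ L_1 ⟶ L_0 ⟶ S.X₂`. -/
noncomputable def spl : ChainComplex A ℕ :=
  L.augment (p ≫ S.f) (by rw [reassoc_of% w, zero_comp])

lemma spl_w : (spl S L p w).d 1 0 ≫ S.g = 0 := by
  change (p ≫ S.f) ≫ S.g = 0
  simp

include hS in
lemma exact_zero [Epi p] :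
    (ShortComplex.mk ((spl S L p w).d 1 0) S.g (spl_w S L p w)).Exact := by
  let φ : ShortComplex.mk ((spl S L p w).d 1 0) S.g (spl_w S L p w) ⟶ S :=
    { τ₁ := p, τ₂ := 𝟙 _, τ₃ := 𝟙 _
      comm₁₂ := by
        change p ≫ S.f = (p ≫ S.f) ≫ 𝟙 _
        simp
      comm₂₃ := by
        change 𝟙 _ ≫ S.g = S.g ≫ 𝟙 _
        simp }
  have : Epi φ.τ₁ := inferInstanceAs (Epi p)
  have : IsIso φ.τ₂ := inferInstanceAs (IsIso (𝟙 _))
  have : Mono φ.τ₃ := inferInstanceAs (Mono (𝟙 _))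
  exact (ShortComplex.exact_iff_of_epi_of_isIso_of_mono φ).2 hS.exact

include hS in
lemma exact_one (h : (ShortComplex.mk (L.d 1 0) p w).Exact) : (spl S L p w).ExactAt 1 := by
  have := hS.mono_f
  rw [HomologicalComplex.exactAt_iff' _ 2 1 0 (by simp) (by simp)]
  let φ : ShortComplex.mk (L.d 1 0) p w ⟶ (spl S L p w).sc' 2 1 0 :=
    { τ₁ := 𝟙 _, τ₂ := 𝟙 _, τ₃ := S.f
      comm₁₂ := by
        change 𝟙 _ ≫ L.d 1 0 = L.d 1 0 ≫ 𝟙 _
        simp
      comm₂₃ := by
        change 𝟙 _ ≫ p ≫ S.f = p ≫ S.f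
        simp }
  have : Epi φ.τ₁ := inferInstanceAs (Epi (𝟙 _))
  have : IsIso φ.τ₂ := inferInstanceAs (IsIso (𝟙 _))
  have : Mono φ.τ₃ := inferInstanceAs (Mono S.f)
  exact (ShortComplex.exact_iff_of_epi_of_isIso_of_mono φ).1 h

lemma exact_succ (n : ℕ) (h : L.ExactAt (n + 1)) : (spl S L p w).ExactAt (n + 2) := by
  rw [HomologicalComplex.exactAt_iff' _ (n + 3) (n + 2) (n + 1) (by simp) (by simp)]
  rw [HomologicalComplex.exactAt_iff' _ (n + 2) (n + 1) n (by simp) (by simp)] at h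
  exact h

end Aug

section Modules

variable {X : Scheme.{u}}

/-- **Splicing.** If `0 ⟶ K ⟶ E ⟶ M ⟶ 0` is exact, `E` is finite locally free and `K` has a finite
resolution by finite locally free modules, then so does `M`. -/
theorem exists_isLFRes_splice (S : ShortComplex X.Modules) (hS : S.ShortExact)
    (h₂ : FlatMod.IsFinLocFree S.X₂) {n : ℕ} {L : ChainComplex X.Modules ℕ}
    {π : L ⟶ (ChainComplex.single₀ X.Modules).obj S.X₁} (h : KRR.IsLFRes S.X₁ n L π) :
    ∃ (L' : ChainComplex X.Modules ℕ) (π' : L' ⟶ (ChainComplex.single₀ X.Modules).obj S.X₃),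
      KRR.IsLFRes S.X₃ (n + 1) L' π' ∧ L'.X 0 = S.X₂ ∧ ∀ i, L'.X (i + 1) = L.X i := by
  obtain ⟨p, w, rfl⟩ := exists_toSingle π
  obtain ⟨h1, h2, h3⟩ := (quasiIso_iff L p w).1 h.quasiIso
  have := hS.epi_g
  refine ⟨spl S L p w, (ChainComplex.toSingle₀Equiv _ _).symm ⟨S.g, spl_w S L p w⟩, ?_, rfl,
    fun i => rfl⟩
  refine ⟨fun i => ?_, fun i hi => ?_, (quasiIso_iff _ _ _).2 ⟨fun m => ?_,
    exact_zero S hS L p w, hS.epi_g⟩⟩
  · cases i with
    | zero => exact h₂
    | succ i => exact h.finLocFree i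
  · cases i with
    | zero => omega
    | succ i => exact h.isZero i (by omega)
  · cases m with
    | zero => exact exact_one S hS L p w h2
    | succ m => exact exact_succ S L p w m (h1 m)

theorem hasLFRes_of_shortExact (S : ShortComplex X.Modules) (hS : S.ShortExact)
    (h₂ : FlatMod.IsFinLocFree S.X₂) (h₁ : KRR.HasLFRes S.X₁) : KRR.HasLFRes S.X₃ := by
  obtain ⟨n, L, π, h⟩ := h₁
  obtain ⟨L', π', h', -⟩ := exists_isLFRes_splice S hS h₂ h
  exact ⟨n + 1, L', π', h'⟩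

theorem isLFRes_of_iso {M N : X.Modules} (e : M ≅ N) {n : ℕ} {L : ChainComplex X.Modules ℕ}
    {π : L ⟶ (ChainComplex.single₀ X.Modules).obj M} (h : KRR.IsLFRes M n L π) :
    KRR.IsLFRes N n L (π ≫ (ChainComplex.single₀ X.Modules).map e.hom) :=
  ⟨h.finLocFree, h.isZero, by have := h.quasiIso; infer_instance⟩

theorem hasLFRes_of_iso {M N : X.Modules} (e : M ≅ N) (h : KRR.HasLFRes M) : KRR.HasLFRes N := by
  obtain ⟨n, L, π, h⟩ := h
  exact ⟨n, L, _, isLFRes_of_iso e h⟩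

theorem hasLFRes_of_isFinLocFree {M : X.Modules} (h : FlatMod.IsFinLocFree M) : KRR.HasLFRes M := by
  refine ⟨0, (ChainComplex.single₀ X.Modules).obj M, 𝟙 _, fun i => ?_, fun i hi => ?_, inferInstance⟩
  · cases i with
    | zero => exact h
    | succ i =>
      exact Groth.Agent.Dcoh.FinLocFree.isFinLocFree_of_isZero
        (HomologicalComplex.isZero_single_obj_X _ _ _ _ (by simp))
  · exact HomologicalComplex.isZero_single_obj_X _ _ _ _ (by omega)

theorem hasLFRes_of_isZero {M : X.Modules} (h : IsZero M) : KRR.HasLFRes M :=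
  hasLFRes_of_isFinLocFree (Groth.Agent.Dcoh.FinLocFree.isFinLocFree_of_isZero h)

end Modules

end Groth.Agent.Krr.H473.Splice
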